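import Cfsg.Agent.H385.RC.Dec

/-!
# S3510, symplectic groups in characteristic two: `Sp₆(2)`, quadratic forms of plus type (helper76)

`fifteen_of_plus` : commuting isometries of pairwise different prime orders (at least two of them) of a quadratic form of
plus type in dimension 6 over the field with two elements, such that every common fixed vector is singular, are two
elements of orders 3 and 5 with known fixed spaces.
-/

set_option autoImplicit false
set_option linter.unusedSimpArgs false
set_option linter.unusedVariables false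
set_option linter.unusedSectionVars false

namespace Cfsg.Agent.H76.RC

open Cfsg Cfsg.Agent.H106.RC Cfsg.Agent.H385.RC Cfsg.Agent.H520.RC Module
open QuadraticMap (polar)

section eps

variable {F : Type*} [Field F]

open Classical in
/-- the sign of an element of the field with two elements -/
noncomputable def eps (a : F) : ℤ := if a = 0 then 1 else -1

theorem eps_zero : eps (0 : F) = 1 := if_pos rfl

theorem eps_ne {a : F} (h : a ≠ 0) : eps a = -1 := if_neg h

theorem zero_or_one [Finite F] (hF : Nat.card F = 2) (a : F) : a = 0 ∨ a = 1 := by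
  classical
  by_contra h
  push Not at h
  have : Fintype F := Fintype.ofFinite F
  have h1 : ({0, 1, a} : Finset F).card ≤ Fintype.card F := Finset.card_le_univ _
  rw [← Nat.card_eq_fintype_card, hF, Finset.card_insert_of_notMem, Finset.card_insert_of_notMem,
    Finset.card_singleton] at h1
  · omega
  · rw [Finset.mem_singleton]; exact h.2.symm
  · rw [Finset.mem_insert, Finset.mem_singleton]
    rintro (h2 | h2)
    · exact zero_ne_one h2
    · exact h.1 h2.symm

theorem eps_add [Finite F] (hF : Nat.card F = 2) (h2 : (2 : F) = 0) (a b : F) : eps (a + b) = eps a * eps b := by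
  have h3 : (1 : F) + 1 = 0 := by rw [one_add_one_eq_two, h2]
  rcases zero_or_one hF a with rfl | rfl <;> rcases zero_or_one hF b with rfl | rfl
  · rw [add_zero, eps_zero]; norm_num
  · rw [zero_add, eps_zero, one_mul]
  · rw [add_zero, eps_zero, mul_one]
  · rw [h3, eps_zero, eps_ne one_ne_zero]; norm_num

end eps

section count

variable {F V G : Type*} [Field F] [Finite F] [AddCommGroup V] [Module F V] [FiniteDimensional F V] [Group G]
  [DistribMulAction G V] {B : LinearMap.BilinForm F V} {N : Subgroup G}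

/-- counting fixed points of an element of prime order -/
theorem card_mod {V G : Type*} [Finite V] [Group G] [MulAction G V] {x : G} {r : ℕ} (hr : r.Prime) (hx : x ^ r = 1)
    (P : V → Prop) (hP : ∀ v, P v → P (x • v)) :
    Nat.card {v : V // P v} ≡ Nat.card {v : V // P v ∧ x • v = v} [MOD r] := by
  classical
  have : Fact r.Prime := ⟨hr⟩
  have : Fintype {v : V // P v} := Fintype.ofFinite _
  let f : Function.End {v : V // P v} := fun v => ⟨x • (v : V), hP v v.2⟩
  have hf : ∀ (n : ℕ) (v : {v : V // P v}), (((f ^ n) v : {v : V // P v}) : V) = x ^ n • (v : V) := by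
    intro n
    induction n with
    | zero => intro v; rw [pow_zero, pow_zero, one_smul]; rfl
    | succ n ih =>
      intro v
      rw [pow_succ, pow_succ, mul_smul]
      exact ih (f v)
  have hf1 : f ^ r ^ 1 = 1 := by
    funext v
    apply Subtype.ext
    rw [hf, pow_one, hx, one_smul]
    rfl
  have h1 := Equiv.Perm.card_fixedPoints_modEq hf1
  rw [← Nat.card_eq_fintype_card, ← Nat.card_eq_fintype_card] at h1
  refine h1.trans ?_
  have h2 : Nat.card f.fixedPoints = Nat.card {v : V // P v ∧ x • v = v} :=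
    Nat.card_congr
      { toFun := fun v => ⟨v.1, v.1.2, congrArg Subtype.val v.2⟩
        invFun := fun v => ⟨⟨v.1, v.2.1⟩, Subtype.ext v.2.2⟩
        left_inv := fun v => rfl
        right_inv := fun v => rfl }
  rw [h2]

theorem all_mem (h : Ev B N) (hF : Nat.card F = 2) (g : G) : g ∈ N := by
  rw [h.mem]
  intro a v
  rcases zero_or_one hF a with rfl | rfl
  · rw [zero_smul, zero_smul, smul_zero]
  · rw [one_smul, one_smul]

/-- the fixed space -/
def fixS (h : Ev B N) (hF : Nat.card F = 2) (x : G) : Submodule F V where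
  carrier := {v | x • v = v}
  add_mem' {u v} (hu : x • u = u) (hv : x • v = v) := show x • (u + v) = u + v by rw [smul_add, hu, hv]
  zero_mem' := smul_zero x
  smul_mem' a {v} (hv : x • v = v) := show x • a • v = a • v by rw [h.lin (all_mem h hF x), hv]

theorem mem_fixS (h : Ev B N) (hF : Nat.card F = 2) {x : G} {v : V} : v ∈ fixS h hF x ↔ x • v = v := Iff.rfl

theorem card_sub (hF : Nat.card F = 2) (D : Submodule F V) : Nat.card D = 2 ^ finrank F D := by
  rw [Module.natCard_eq_pow_finrank (K := F) (V := D), hF]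

theorem card_mod_sub (h : Ev B N) (hF : Nat.card F = 2) {x : G} {r : ℕ} (hr : r.Prime) (hx : x ^ r = 1)
    (D : Submodule F V) (hD : ∀ v ∈ D, x • v ∈ D) : Nat.card D ≡ Nat.card ↥(D ⊓ fixS h hF x) [MOD r] := by
  have : Finite V := Module.finite_of_finite F
  exact card_mod hr hx (fun v => v ∈ D) hD

/-- the fixed space of an element of odd prime order is nondegenerate -/
theorem nalt_fixS (h : Ev B N) (hF : Nat.card F = 2) {x : G} {r : ℕ} (hr : Odd r) (hx : x ^ r = 1) :
    NAlt (B.restrict (fixS h hF x)) := by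
  refine ⟨fun v => h.self _, fun v hv => ?_⟩
  apply Subtype.ext
  apply h.nd
  intro w
  have hB : ∀ i : ℕ, B (v : V) (x ^ i • w) = B (v : V) w := by
    intro i
    have h1 : x ^ i • (v : V) = v := by
      induction i with
      | zero => rw [pow_zero, one_smul]
      | succ i ih => rw [pow_succ, mul_smul, (mem_fixS h hF).1 v.2, ih]
    conv_lhs => rw [← h1]
    exact h.isom (all_mem h hF _) _ _
  let tr : V := ∑ i ∈ Finset.range r, x ^ i • w
  have htr : tr ∈ fixS h hF x := by
    rw [mem_fixS]
    show x • (∑ i ∈ Finset.range r, x ^ i • w) = ∑ i ∈ Finset.range r, x ^ i • w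
    rw [Finset.smul_sum]
    have h1 : ∀ i, x • x ^ i • w = x ^ (i + 1) • w := fun i => by rw [pow_succ', mul_smul]
    simp only [h1]
    have h2 := Finset.sum_range_succ (fun i => x ^ i • w) r
    have h3 := Finset.sum_range_succ' (fun i => x ^ i • w) r
    rw [h3, hx, pow_zero] at h2
    exact add_right_cancel h2
  have h4 : B (v : V) tr = 0 := hv ⟨tr, htr⟩
  have h5 : B (v : V) tr = B (v : V) w := by
    show B (v : V) (∑ i ∈ Finset.range r, x ^ i • w) = _
    rw [map_sum, Finset.sum_congr rfl fun i _ => hB i, Finset.sum_const, Finset.card_range]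
    obtain ⟨k, rfl⟩ := hr
    rw [nsmul_eq_mul]
    push_cast
    linear_combination (k * B (v : V) w) * h.two
  rw [← h5, h4]

theorem even_fixS (h : Ev B N) (hF : Nat.card F = 2) {x : G} {r : ℕ} (hr : Odd r) (hx : x ^ r = 1) :
    Even (finrank F (fixS h hF x)) := by
  have h1 := nalt_fixS h hF hr hx
  exact Cfsg.Agent.H727.GW.even_finrank _ _ (B.restrict (fixS h hF x)) h1.alt h1.nd rfl

theorem fixS_ne_top (h : Ev B N) (hF : Nat.card F = 2) {x : G} (hx : x ≠ 1) : fixS h hF x ≠ ⊤ := by
  intro h1
  apply hx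
  apply h.inj
  intro v
  have : v ∈ fixS h hF x := by rw [h1]; trivial
  exact this

theorem disj_orth (h : Ev B N) {A : Submodule F V} (hA : NAlt (B.restrict A)) : A ⊓ B.orthogonal A = ⊥ := by
  rw [eq_bot_iff]
  rintro v ⟨h1, h2⟩
  rw [Submodule.mem_bot]
  have h3 : (⟨v, h1⟩ : A) = 0 := by
    apply hA.nd
    intro w
    exact h.mem_orth.1 h2 w w.2
  exact congrArg Subtype.val h3

end count

section sums

variable {F V G : Type*} [Field F] [Finite F] [AddCommGroup V] [Module F V] [FiniteDimensional F V] [Group G]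
  [DistribMulAction G V] {B : LinearMap.BilinForm F V} {N : Subgroup G} {Q : QuadraticForm F V}

theorem Q_add (hQ : ∀ u v, polar Q u v = B u v) (u v : V) : Q (u + v) = Q u + Q v + B u v := by
  rw [← hQ, polar]; ring

open Classical in
theorem sum_eps [Fintype V] (h : Ev B N) (hF : Nat.card F = 2) (D : Submodule F V) (v : V) :
    ∑ u ∈ Finset.univ.filter (fun u => u ∈ D), eps (B v u) =
      if v ∈ B.orthogonal D then (Nat.card D : ℤ) else 0 := by
  have hcard : (Finset.univ.filter (fun u => u ∈ D)).card = Nat.card D := by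
    rw [Nat.card_eq_fintype_card, ← Fintype.card_subtype]
  by_cases hv : v ∈ B.orthogonal D
  · rw [if_pos hv, Finset.sum_congr rfl (g := fun _ => (1 : ℤ)), Finset.sum_const, hcard]
    · simp
    · intro u hu
      rw [h.mem_orth.1 hv u (Finset.mem_filter.1 hu).2, eps_zero]
  · rw [if_neg hv]
    have h1 : ∃ u0 ∈ D, B v u0 ≠ 0 := by
      by_contra hno
      push Not at hno
      exact hv (h.mem_orth.2 hno)
    obtain ⟨u0, hu0, hne⟩ := h1
    have h2 : ∑ u ∈ Finset.univ.filter (fun u => u ∈ D), eps (B v u) =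
        ∑ u ∈ Finset.univ.filter (fun u => u ∈ D), - eps (B v u) := by
      refine Finset.sum_nbij' (fun u => u + u0) (fun u => u + u0) ?_ ?_ ?_ ?_ ?_
      · intro u hu
        exact Finset.mem_filter.2 ⟨Finset.mem_univ _, D.add_mem (Finset.mem_filter.1 hu).2 hu0⟩
      · intro u hu
        exact Finset.mem_filter.2 ⟨Finset.mem_univ _, D.add_mem (Finset.mem_filter.1 hu).2 hu0⟩
      · intro u _
        rw [add_assoc, h.vadd_self, add_zero]
      · intro u _
        rw [add_assoc, h.vadd_self, add_zero]
      · intro u _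
        rw [map_add, eps_add hF h.two, eps_ne hne]
        ring
    rw [Finset.sum_neg_distrib] at h2
    omega

open Classical in
/-- the sum over the space is the sum over the orthogonal of a totally singular subspace -/
theorem sum_perp [Fintype V] (h : Ev B N) (hF : Nat.card F = 2) (hQ : ∀ u v, polar Q u v = B u v) (D : Submodule F V)
    (hD : ∀ v ∈ D, Q v = 0) :
    ∑ v : V, eps (Q v) = ∑ v ∈ Finset.univ.filter (fun v => v ∈ B.orthogonal D), eps (Q v) := by
  have hcard : (Finset.univ.filter (fun u => u ∈ D)).card = Nat.card D := by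
    rw [Nat.card_eq_fintype_card, ← Fintype.card_subtype]
  have h1 : ∀ u ∈ D, ∑ v : V, eps (Q v) = ∑ v : V, eps (Q v) * eps (B v u) := by
    intro u hu
    rw [← Equiv.sum_comp (Equiv.addRight u) (fun v => eps (Q v))]
    refine Finset.sum_congr rfl fun v _ => ?_
    rw [Equiv.coe_addRight, Q_add hQ, hD u hu, add_zero, eps_add hF h.two]
  have h2 : (Nat.card D : ℤ) * ∑ v : V, eps (Q v) =
      (Nat.card D : ℤ) * ∑ v ∈ Finset.univ.filter (fun v => v ∈ B.orthogonal D), eps (Q v) := by
    have h3 : (Nat.card D : ℤ) * ∑ v : V, eps (Q v) =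
        ∑ u ∈ Finset.univ.filter (fun u => u ∈ D), ∑ v : V, eps (Q v) * eps (B v u) := by
      rw [← hcard, ← nsmul_eq_mul, ← Finset.sum_const]
      exact Finset.sum_congr rfl fun u hu => h1 u (Finset.mem_filter.1 hu).2
    rw [h3, Finset.sum_comm, Finset.mul_sum, Finset.sum_filter]
    refine Finset.sum_congr rfl fun v _ => ?_
    rw [← Finset.mul_sum, sum_eps h hF]
    split_ifs
    · ring
    · ring
  have h4 : (Nat.card D : ℤ) ≠ 0 := by
    have : Finite V := Finite.of_fintype V
    have : 0 < Nat.card D := Nat.card_pos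
    exact_mod_cast this.ne'
  exact mul_left_cancel₀ h4 h2

open Classical in
theorem sum_eps_count [Fintype V] (S : Finset V) :
    ∑ v ∈ S, eps (Q v) = 2 * ((S.filter fun v => Q v = 0).card : ℤ) - (S.card : ℤ) := by
  have h1 : ∀ v ∈ S, eps (Q v) = 2 * (if Q v = 0 then (1 : ℤ) else 0) - 1 := by
    intro v _
    by_cases hv : Q v = 0
    · rw [hv, eps_zero, if_pos rfl]; norm_num
    · rw [eps_ne hv, if_neg hv]; norm_num
  rw [Finset.sum_congr rfl h1, Finset.sum_sub_distrib, ← Finset.mul_sum, Finset.sum_boole, Finset.sum_const]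
  simp

theorem isotropic_of_sing (hQ : ∀ u v, polar Q u v = B u v) {D : Submodule F V} (hD : ∀ v ∈ D, Q v = 0) {u v : V}
    (hu : u ∈ D) (hv : v ∈ D) : B u v = 0 := by
  have h1 := Q_add hQ u v
  rw [hD _ (D.add_mem hu hv), hD u hu, hD v hv, add_zero, zero_add] at h1
  exact h1.symm

/-- the sum for a form of plus type -/
theorem sum_plus [Fintype V] (h : Ev B N) (hF : Nat.card F = 2) (hQ : ∀ u v, polar Q u v = B u v)
    (hdim : finrank F V = 6) (hplus : ∃ U : Submodule F V, (∀ v ∈ U, Q v = 0) ∧ finrank F U = 3) :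
    ∑ v : V, eps (Q v) = 8 := by
  classical
  obtain ⟨U, hU, hU3⟩ := hplus
  have h1 : U ≤ B.orthogonal U := fun v hv => h.mem_orth.2 fun a ha => isotropic_of_sing hQ hU hv ha
  have h2 := h.finrank_add U
  have h3 : U = B.orthogonal U := Submodule.eq_of_le_of_finrank_eq h1 (by omega)
  rw [sum_perp h hF hQ U hU, ← h3, Finset.sum_congr rfl (g := fun _ => (1 : ℤ)), Finset.sum_const]
  · have hcard : (Finset.univ.filter (fun u => u ∈ U)).card = Nat.card U := by
      rw [Nat.card_eq_fintype_card, ← Fintype.card_subtype]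
    rw [hcard, card_sub hF, hU3]
    norm_num
  · intro v hv
    rw [hU v (Finset.mem_filter.1 hv).2, eps_zero]

/-- the number of singular vectors -/
theorem card_sing (h : Ev B N) (hF : Nat.card F = 2) (hQ : ∀ u v, polar Q u v = B u v)
    (hdim : finrank F V = 6) (hplus : ∃ U : Submodule F V, (∀ v ∈ U, Q v = 0) ∧ finrank F U = 3) :
    Nat.card {v : V // Q v = 0} = 36 := by
  classical
  have : Finite V := Module.finite_of_finite F
  have : Fintype V := Fintype.ofFinite V
  have h1 := sum_plus h hF hQ hdim hplus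
  rw [sum_eps_count] at h1
  have h2 : (Finset.univ : Finset V).card = 64 := by
    rw [Finset.card_univ, ← Nat.card_eq_fintype_card, Module.natCard_eq_pow_finrank (K := F), hF, hdim]
    norm_num
  rw [h2] at h1
  rw [Nat.card_eq_fintype_card, Fintype.card_subtype]
  push_cast at h1
  omega

theorem finrank_fixS_lt (h : Ev B N) (hF : Nat.card F = 2) {x : G} (hx : x ≠ 1) :
    finrank F (fixS h hF x) < finrank F V :=
  Submodule.finrank_lt (fixS_ne_top h hF hx)

/-- the fixed space of an element of odd prime order -/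
theorem odd_cases (h : Ev B N) (hF : Nat.card F = 2) (hQ : ∀ u v, polar Q u v = B u v)
    (hdim : finrank F V = 6) (hplus : ∃ U : Submodule F V, (∀ v ∈ U, Q v = 0) ∧ finrank F U = 3)
    {x : G} {r : ℕ} (hr : r.Prime) (hr2 : r ≠ 2) (hx : x ^ r = 1) (hx1 : x ≠ 1) (hO : ∀ v, Q (x • v) = Q v) :
    (r = 3 ∧ ((Nat.card (fixS h hF x) = 4 ∧ Nat.card {v : V // Q v = 0 ∧ x • v = v} = 3) ∨
      Nat.card (fixS h hF x) = 16)) ∨
    (r = 5 ∧ Nat.card (fixS h hF x) = 4 ∧ Nat.card {v : V // Q v = 0 ∧ x • v = v} = 1) ∨
    (r = 7 ∧ Nat.card (fixS h hF x) = 1) := by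
  have : Finite V := Module.finite_of_finite F
  have h1 : Nat.card V = 64 := by
    rw [Module.natCard_eq_pow_finrank (K := F), hF, hdim]
    norm_num
  have h2 : 64 ≡ Nat.card (fixS h hF x) [MOD r] := by
    have h3 := card_mod_sub h hF hr hx ⊤ (fun v _ => trivial)
    rw [top_inf_eq] at h3
    have h4 : Nat.card (⊤ : Submodule F V) = 64 := by
      rw [← h1]
      exact Nat.card_congr (Equiv.Set.univ V)
    rwa [h4] at h3
  have h3 : 36 ≡ Nat.card {v : V // Q v = 0 ∧ x • v = v} [MOD r] := by
    rw [← card_sing h hF hQ hdim hplus]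
    exact card_mod hr hx (fun v => Q v = 0) fun v hv => by rw [hO, hv]
  have h4 : Nat.card {v : V // Q v = 0 ∧ x • v = v} ≤ Nat.card (fixS h hF x) :=
    Nat.card_le_card_of_injective (fun v : {v : V // Q v = 0 ∧ x • v = v} => (⟨v.1, v.2.2⟩ : fixS h hF x))
      fun a b hab => Subtype.ext (congrArg (fun w : fixS h hF x => (w : V)) hab)
  have h5 : 0 < Nat.card {v : V // Q v = 0 ∧ x • v = v} := by
    have : Nonempty {v : V // Q v = 0 ∧ x • v = v} := ⟨⟨0, QuadraticMap.map_zero Q, smul_zero x⟩⟩
    exact Nat.card_pos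
  set c := Nat.card (fixS h hF x) with hc
  set s := Nat.card {v : V // Q v = 0 ∧ x • v = v} with hs
  have h6 : c = 1 ∨ c = 4 ∨ c = 16 := by
    have h7 := finrank_fixS_lt h hF hx1
    have h8 := even_fixS h hF (hr.odd_of_ne_two hr2) hx
    have h9 : c = 2 ^ finrank F (fixS h hF x) := card_sub hF _
    rw [hdim] at h7
    generalize finrank F (fixS h hF x) = d at h7 h8 h9
    interval_cases d
    · left; rw [h9]; norm_num
    · exact absurd h8 (by decide)
    · right; left; rw [h9]; norm_num
    · exact absurd h8 (by decide)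
    · right; right; rw [h9]; norm_num
    · exact absurd h8 (by decide)
  have hr3 : ∀ {k : ℕ}, r ∣ 3 ^ k → r = 3 := fun hk =>
    (Nat.prime_dvd_prime_iff_eq hr Nat.prime_three).1 (hr.dvd_of_dvd_pow hk)
  have hr22 : ∀ {k : ℕ}, ¬ r ∣ 2 ^ k := fun hk =>
    hr2 ((Nat.prime_dvd_prime_iff_eq hr Nat.prime_two).1 (hr.dvd_of_dvd_pow hk))
  rcases h6 with h6 | h6 | h6
  · rw [h6] at h2 h4
    have h7 : r ∣ 3 ^ 2 * 7 := (Nat.modEq_iff_dvd' (by norm_num)).1 h2.symm
    rcases hr.dvd_mul.1 h7 with h8 | h8
    · exfalso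
      have h9 := hr3 h8
      rw [h9] at h3
      unfold Nat.ModEq at h3
      omega
    · right; right
      exact ⟨(Nat.prime_dvd_prime_iff_eq hr (by norm_num)).1 h8, h6⟩
  · rw [h6] at h2 h4
    have h7 : r ∣ 2 ^ 2 * (3 ^ 1 * 5) := (Nat.modEq_iff_dvd' (by norm_num)).1 h2.symm
    rcases hr.dvd_mul.1 h7 with h8 | h8
    · exact absurd h8 hr22
    · rcases hr.dvd_mul.1 h8 with h9 | h9
      · left
        have h10 := hr3 h9
        refine ⟨h10, Or.inl ⟨h6, ?_⟩⟩
        rw [h10] at h3
        unfold Nat.ModEq at h3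
        omega
      · right; left
        have h10 : r = 5 := (Nat.prime_dvd_prime_iff_eq hr Nat.prime_five).1 h9
        refine ⟨h10, h6, ?_⟩
        rw [h10] at h3
        unfold Nat.ModEq at h3
        omega
  · rw [h6] at h2
    have h7 : r ∣ 2 ^ 4 * 3 ^ 1 := (Nat.modEq_iff_dvd' (by norm_num)).1 h2.symm
    rcases hr.dvd_mul.1 h7 with h8 | h8
    · exact absurd h8 hr22
    · left
      exact ⟨hr3 h8, Or.inr h6⟩

end sums

section pairs

variable {F V G : Type*} [Field F] [Finite F] [AddCommGroup V] [Module F V] [FiniteDimensional F V] [Group G] [Finite G]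
  [DistribMulAction G V] {B : LinearMap.BilinForm F V} {N : Subgroup G} {Q : QuadraticForm F V}

theorem count_split (h : Ev B N) (hF : Nat.card F = 2) (Q : QuadraticForm F V) (x : G) :
    Nat.card (fixS h hF x) = Nat.card {v : V // Q v = 0 ∧ x • v = v} + Nat.card {v : V // Q v ≠ 0 ∧ x • v = v} := by
  classical
  have : Finite V := Module.finite_of_finite F
  have : Fintype V := Fintype.ofFinite V
  have h1 : Nat.card (fixS h hF x) = (Finset.univ.filter fun v : V => x • v = v).card := by
    rw [← Fintype.card_subtype, ← Nat.card_eq_fintype_card]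
    rfl
  rw [h1, Nat.card_eq_fintype_card, Nat.card_eq_fintype_card, Fintype.card_subtype, Fintype.card_subtype,
    ← Finset.card_filter_add_card_filter_not (s := Finset.univ.filter fun v : V => x • v = v) (fun v => Q v = 0)]
  congr 1
  · congr 1
    ext v
    simp only [Finset.mem_filter, Finset.mem_univ, true_and]
    exact and_comm
  · congr 1
    ext v
    simp only [Finset.mem_filter, Finset.mem_univ, true_and]
    exact and_comm

theorem inv_fixS (h : Ev B N) (hF : Nat.card F = 2) {x y : G} (hxy : x * y = y * x) :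
    ∀ v ∈ fixS h hF x, y • v ∈ fixS h hF x := by
  intro v hv
  rw [mem_fixS] at hv ⊢
  rw [← mul_smul, hxy, mul_smul, hv]

theorem inv_orth (h : Ev B N) (hF : Nat.card F = 2) {x y : G} (hxy : x * y = y * x) :
    ∀ v ∈ B.orthogonal (fixS h hF x), y • v ∈ B.orthogonal (fixS h hF x) :=
  h.orth_inv (inv_fixS h hF hxy)

theorem finrank_of_card (hF : Nat.card F = 2) {D : Submodule F V} {k : ℕ} (hD : Nat.card D = 2 ^ k) :
    finrank F D = k := by
  rw [card_sub hF] at hD
  exact Nat.pow_right_injective le_rfl hD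

/-- the complement of the fixed space of an element of order 3 is anisotropic -/
theorem aniso (h : Ev B N) (hF : Nat.card F = 2) (hQ : ∀ u v, polar Q u v = B u v) (hdim : finrank F V = 6) {x : G}
    (hx : x ^ 3 = 1) (hO : ∀ v, Q (x • v) = Q v) (hc : Nat.card (fixS h hF x) = 16) {a : V}
    (ha : a ∈ B.orthogonal (fixS h hF x)) (ha0 : a ≠ 0) : Q a ≠ 0 := by
  intro hQa
  have hC := nalt_fixS h hF (by decide) hx
  have hA := h.nalt_orth hC
  have hdis := disj_orth h hC
  have hinv := inv_orth h hF (x := x) (y := x) rfl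
  have hfC : finrank F (fixS h hF x) = 4 := finrank_of_card hF (by rw [hc]; norm_num)
  have hfA : finrank F (B.orthogonal (fixS h hF x)) = 2 := by
    have := h.finrank_add (fixS h hF x)
    omega
  have hxa := hinv a ha
  have hxxa := hinv _ hxa
  have h3 : x • x • x • a = a := by
    rw [← mul_smul, ← mul_smul, show x * x * x = x ^ 3 by rw [pow_succ, pow_two], hx, one_smul]
  -- the trace vanishes
  have ht : a + x • a + x • x • a = 0 := by
    have h4 : a + x • a + x • x • a ∈ fixS h hF x ⊓ B.orthogonal (fixS h hF x) := by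
      refine ⟨?_, Submodule.add_mem _ (Submodule.add_mem _ ha hxa) hxxa⟩
      rw [SetLike.mem_coe, mem_fixS, smul_add, smul_add, h3]
      abel
    rw [hdis, Submodule.mem_bot] at h4
    exact h4
  have h5 : x • x • a = a + x • a := by
    have h6 := h.vadd_self (x • x • a)
    calc x • x • a = (a + x • a + x • x • a) + x • x • a + 0 := by rw [ht, zero_add, add_zero]
      _ = (a + x • a) + (x • x • a + x • x • a) := by abel
      _ = a + x • a := by rw [h6, add_zero]
  have hBa : B a (x • a) = 0 := by
    have h6 := Q_add hQ a (x • a)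
    rw [← h5, hO, hO, hQa, zero_add, zero_add] at h6
    exact h6.symm
  have hne : x • a ≠ a := by
    intro h6
    have h7 : a ∈ fixS h hF x ⊓ B.orthogonal (fixS h hF x) := ⟨h6, ha⟩
    rw [hdis, Submodule.mem_bot] at h7
    exact ha0 h7
  -- `A` is spanned by `a`, `x a`
  let a1 : B.orthogonal (fixS h hF x) := ⟨a, ha⟩
  let a2 : B.orthogonal (fixS h hF x) := ⟨x • a, hxa⟩
  have hli : LinearIndependent F ![a1, a2] := by
    rw [LinearIndependent.pair_iff]
    intro s t hst
    have h6 : s • a + t • x • a = 0 := congrArg Subtype.val hst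
    rcases zero_or_one hF s with rfl | rfl <;> rcases zero_or_one hF t with rfl | rfl
    · exact ⟨rfl, rfl⟩
    · exfalso
      rw [zero_smul, zero_add, one_smul] at h6
      exact ha0 ((smul_eq_zero_iff_eq x).1 h6)
    · exfalso
      rw [zero_smul, add_zero, one_smul] at h6
      exact ha0 h6
    · exfalso
      rw [one_smul, one_smul] at h6
      exact hne (add_left_cancel (h6.trans (h.vadd_self a).symm))
  have hspan := hli.span_eq_top_of_card_eq_finrank' (by rw [hfA]; simp)
  have h8 : (a1 : B.orthogonal (fixS h hF x)) = 0 := by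
    apply hA.nd
    intro b
    have hb : b ∈ Submodule.span F (Set.range ![a1, a2]) := by rw [hspan]; trivial
    rw [Matrix.range_cons, Matrix.range_cons, Matrix.range_empty, Set.union_empty, Set.singleton_union,
      Submodule.mem_span_pair] at hb
    obtain ⟨s, t, rfl⟩ := hb
    show B a ((s • a1 + t • a2 : B.orthogonal (fixS h hF x)) : V) = 0
    show B a (s • a + t • x • a) = 0
    rw [map_add, map_smul, map_smul, h.self, hBa, smul_zero, smul_zero, add_zero]
  exact ha0 (congrArg Subtype.val h8)

/-- the case of the orders 2 and 3 -/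
theorem two_three (h : Ev B N) (hF : Nat.card F = 2) (hQ : ∀ u v, polar Q u v = B u v) (hdim : finrank F V = 6)
    (hplus : ∃ U : Submodule F V, (∀ v ∈ U, Q v = 0) ∧ finrank F U = 3) {x u : G} (hx : x ^ 3 = 1) (hu : u ^ 2 = 1)
    (hxu : x * u = u * x) (hO : ∀ v, Q (x • v) = Q v) (hc : Nat.card (fixS h hF x) = 16)
    (hts : ∀ v, x • v = v → u • v = v → Q v = 0) : False := by
  classical
  have hC := nalt_fixS h hF (by decide) hx
  have hdis := disj_orth h hC
  have hfC : finrank F (fixS h hF x) = 4 := finrank_of_card hF (by rw [hc]; norm_num)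
  have hfA : finrank F (B.orthogonal (fixS h hF x)) = 2 := by
    have := h.finrank_add (fixS h hF x)
    omega
  set D : Submodule F V := fixS h hF x ⊓ fixS h hF u with hD
  have hDs : ∀ v ∈ D, Q v = 0 := fun v hv => hts v hv.1 hv.2
  -- dimension at least two
  have hd2 : 2 ≤ finrank F D := by
    let φ : fixS h hF x →ₗ[F] D :=
      { toFun := fun v => ⟨(v : V) + u • (v : V), Submodule.add_mem _ v.2 (inv_fixS h hF hxu v v.2), by
          rw [SetLike.mem_coe, mem_fixS, smul_add, ← mul_smul, ← pow_two, hu, one_smul, add_comm]⟩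
        map_add' := fun v w => Subtype.ext (by
          show ((v : V) + w) + u • ((v : V) + w) = ((v : V) + u • (v : V)) + ((w : V) + u • (w : V))
          rw [smul_add]; abel)
        map_smul' := fun a v => Subtype.ext (by
          show a • (v : V) + u • a • (v : V) = a • ((v : V) + u • (v : V))
          rw [h.lin (all_mem h hF u), smul_add]) }
    have h1 := LinearMap.finrank_range_add_finrank_ker φ
    have h2 : finrank F φ.range ≤ finrank F D := Submodule.finrank_le _
    have h3 : finrank F φ.ker ≤ finrank F D := by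
      let ψ : φ.ker →ₗ[F] D :=
        { toFun := fun v => ⟨(v : fixS h hF x), (v : fixS h hF x).2, by
            have h4 : φ (v : fixS h hF x) = 0 := v.2
            have h5 : ((v : fixS h hF x) : V) + u • ((v : fixS h hF x) : V) = 0 := congrArg Subtype.val h4
            rw [SetLike.mem_coe, mem_fixS]
            exact add_left_cancel (h5.trans (h.vadd_self _).symm)⟩
          map_add' := fun v w => rfl
          map_smul' := fun a v => rfl }
      exact LinearMap.finrank_le_finrank_of_injective (f := ψ) fun v w hvw =>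
        Subtype.ext (Subtype.ext (congrArg (fun z : D => (z : V)) hvw))
    rw [hfC] at h1
    omega
  -- the orthogonal
  have hDA : D ⊓ B.orthogonal (fixS h hF x) = ⊥ := by
    rw [eq_bot_iff, ← hdis]
    exact inf_le_inf_right _ inf_le_left
  have hle : D ⊔ B.orthogonal (fixS h hF x) ≤ B.orthogonal D := by
    refine sup_le (fun v hv => h.mem_orth.2 fun a ha => isotropic_of_sing hQ hDs hv ha) fun v hv => ?_
    rw [h.mem_orth] at hv ⊢
    intro a ha
    exact hv a ha.1
  have h1 := Submodule.finrank_sup_add_finrank_inf_eq D (B.orthogonal (fixS h hF x))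
  rw [hDA, finrank_bot, add_zero, hfA] at h1
  have h2 := Submodule.finrank_mono hle
  have h3 := h.finrank_add D
  have hd : finrank F D = 2 := by omega
  have heq : D ⊔ B.orthogonal (fixS h hF x) = B.orthogonal D := Submodule.eq_of_le_of_finrank_eq hle (by omega)
  -- counting
  have : Finite V := Module.finite_of_finite F
  have : Fintype V := Fintype.ofFinite V
  have h4 := sum_plus h hF hQ hdim hplus
  rw [sum_perp h hF hQ D hDs, sum_eps_count] at h4
  have hcardS : ∀ W : Submodule F V, (Finset.univ.filter (fun v => v ∈ W)).card = 2 ^ finrank F W := by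
    intro W
    rw [← card_sub hF, Nat.card_eq_fintype_card, ← Fintype.card_subtype]
  have h5 : (Finset.univ.filter (fun v => v ∈ B.orthogonal D)).filter (fun v => Q v = 0) =
      Finset.univ.filter (fun v => v ∈ D) := by
    ext v
    simp only [Finset.mem_filter, Finset.mem_univ, true_and]
    constructor
    · rintro ⟨hv, hQv⟩
      rw [← heq, Submodule.mem_sup] at hv
      obtain ⟨d, hd', a, ha, rfl⟩ := hv
      have h6 := Q_add hQ d a
      have h7 : B d a = 0 := by
        rw [h.symm]
        exact h.mem_orth.1 ha d hd'.1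
      rw [hQv, hDs d hd', h7, zero_add, add_zero] at h6
      have h8 : a = 0 := by
        by_contra ha0
        exact aniso h hF hQ hdim hx hO hc ha ha0 h6.symm
      rw [h8, add_zero]
      exact hd'
    · intro hv
      exact ⟨by rw [← heq]; exact Submodule.mem_sup_left hv, hDs v hv⟩
  rw [h5, hcardS, hcardS] at h4
  have h6 : finrank F (B.orthogonal D) = 4 := by omega
  rw [hd, h6] at h4
  norm_num at h4

/-- the case of the orders 3 and 5 -/
theorem three_five (h : Ev B N) (hF : Nat.card F = 2) (hdim : finrank F V = 6)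
    {x y : G} (hx : x ^ 3 = 1) (hy : y ^ 5 = 1) (hxy : x * y = y * x) (hc : Nat.card (fixS h hF x) = 16)
    (hc' : Nat.card (fixS h hF y) = 4) :
    fixS h hF y = B.orthogonal (fixS h hF x) ∧ fixS h hF x ⊓ fixS h hF y = ⊥ := by
  have hC := nalt_fixS h hF (by decide) hx
  have hdis := disj_orth h hC
  have hfC : finrank F (fixS h hF x) = 4 := finrank_of_card hF (by rw [hc]; norm_num)
  have hfA : finrank F (B.orthogonal (fixS h hF x)) = 2 := by
    have := h.finrank_add (fixS h hF x)
    omega
  have hfY : finrank F (fixS h hF y) = 2 := finrank_of_card hF (by rw [hc']; norm_num)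
  have h1 := card_mod_sub h hF Nat.prime_five hy (B.orthogonal (fixS h hF x)) (inv_orth h hF hxy)
  have h2 : finrank F ↥(B.orthogonal (fixS h hF x) ⊓ fixS h hF y) ≤ 2 := by
    rw [← hfA]
    exact Submodule.finrank_mono inf_le_left
  rw [card_sub hF, card_sub hF, hfA] at h1
  have h3 : finrank F ↥(B.orthogonal (fixS h hF x) ⊓ fixS h hF y) = 2 := by
    generalize finrank F ↥(B.orthogonal (fixS h hF x) ⊓ fixS h hF y) = d at h1 h2
    unfold Nat.ModEq at h1
    interval_cases d
    · norm_num at h1
    · norm_num at h1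
    · rfl
  have h4 : B.orthogonal (fixS h hF x) ⊓ fixS h hF y = B.orthogonal (fixS h hF x) :=
    Submodule.eq_of_le_of_finrank_eq inf_le_left (by rw [h3, hfA])
  have h5 : B.orthogonal (fixS h hF x) ⊓ fixS h hF y = fixS h hF y :=
    Submodule.eq_of_le_of_finrank_eq inf_le_right (by rw [h3, hfY])
  have h6 : fixS h hF y = B.orthogonal (fixS h hF x) := by rw [← h5, h4]
  exact ⟨h6, by rw [h6, hdis]⟩

/-- the orders 2, 3 and 5 together -/
theorem two_three_five (h : Ev B N) (hF : Nat.card F = 2) (hdim : finrank F V = 6)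
    {x y u : G} (hx : x ^ 3 = 1) (hy : y ^ 5 = 1) (hu : u ^ 2 = 1) (hxy : x * y = y * x) (hxu : x * u = u * x)
    (hyu : y * u = u * y) (hc : Nat.card (fixS h hF x) = 16) (hc' : Nat.card (fixS h hF y) = 4) (hu1 : u ≠ 1) :
    False := by
  have hC := nalt_fixS h hF (by decide) hx
  have hdis := disj_orth h hC
  obtain ⟨hY, hCY⟩ := three_five h hF hdim hx hy hxy hc hc'
  have hfC : finrank F (fixS h hF x) = 4 := finrank_of_card hF (by rw [hc]; norm_num)
  have hfA : finrank F (B.orthogonal (fixS h hF x)) = 2 := by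
    have := h.finrank_add (fixS h hF x)
    omega
  -- `u` is trivial on `C(x)`
  have h1 : fixS h hF x ≤ fixS h hF u := by
    have h2 := card_mod_sub h hF Nat.prime_two hu (fixS h hF x) (inv_fixS h hF hxu)
    have h3 := card_mod_sub h hF Nat.prime_five hy (fixS h hF x ⊓ fixS h hF u)
      (fun v hv => ⟨inv_fixS h hF hxy v hv.1, inv_fixS h hF hyu.symm v hv.2⟩)
    have h4 : (fixS h hF x ⊓ fixS h hF u) ⊓ fixS h hF y = ⊥ := by
      rw [eq_bot_iff, ← hCY]
      exact inf_le_inf_right _ inf_le_left
    have h5 : finrank F ↥(fixS h hF x ⊓ fixS h hF u) ≤ 4 := by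
      rw [← hfC]
      exact Submodule.finrank_mono inf_le_left
    rw [h4, card_sub hF, card_sub hF, finrank_bot] at h3
    rw [card_sub hF, card_sub hF, hfC] at h2
    have h6 : finrank F ↥(fixS h hF x ⊓ fixS h hF u) = 4 := by
      generalize finrank F ↥(fixS h hF x ⊓ fixS h hF u) = d at h2 h3 h5
      unfold Nat.ModEq at h2 h3
      interval_cases d
      · norm_num at h2
      · norm_num at h3
      · norm_num at h3
      · norm_num at h3
      · rfl
    exact (Submodule.eq_of_le_of_finrank_eq (inf_le_left : fixS h hF x ⊓ fixS h hF u ≤ _) (by rw [h6, hfC])).symm.le.trans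
      inf_le_right
  have h2 : B.orthogonal (fixS h hF x) ≤ fixS h hF u := by
    have h2 := card_mod_sub h hF Nat.prime_two hu (B.orthogonal (fixS h hF x)) (inv_orth h hF hxu)
    have h3 := card_mod_sub h hF Nat.prime_three hx (B.orthogonal (fixS h hF x) ⊓ fixS h hF u)
      (fun v hv => ⟨inv_orth h hF rfl v hv.1, inv_fixS h hF hxu.symm v hv.2⟩)
    have h4 : (B.orthogonal (fixS h hF x) ⊓ fixS h hF u) ⊓ fixS h hF x = ⊥ := by
      rw [eq_bot_iff, ← hdis, inf_comm (fixS h hF x)]
      exact inf_le_inf_right _ inf_le_left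
    have h5 : finrank F ↥(B.orthogonal (fixS h hF x) ⊓ fixS h hF u) ≤ 2 := by
      rw [← hfA]
      exact Submodule.finrank_mono inf_le_left
    rw [h4, card_sub hF, card_sub hF, finrank_bot] at h3
    rw [card_sub hF, card_sub hF, hfA] at h2
    have h6 : finrank F ↥(B.orthogonal (fixS h hF x) ⊓ fixS h hF u) = 2 := by
      generalize finrank F ↥(B.orthogonal (fixS h hF x) ⊓ fixS h hF u) = d at h2 h3 h5
      unfold Nat.ModEq at h2 h3
      interval_cases d
      · norm_num at h2
      · norm_num at h3
      · rfl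
    exact (Submodule.eq_of_le_of_finrank_eq (inf_le_left : B.orthogonal (fixS h hF x) ⊓ fixS h hF u ≤ _)
      (by rw [h6, hfA])).symm.le.trans inf_le_right
  apply hu1
  apply h.inj
  intro v
  obtain ⟨a, ha, b, hb, rfl⟩ := h.exists_dec hC v
  rw [smul_add, (mem_fixS h hF).1 (h1 ha), (mem_fixS h hF).1 (h2 hb)]

/-- the orders 2 and 7 -/
theorem two_seven (h : Ev B N) (hF : Nat.card F = 2) (hdim : finrank F V = 6)
    {x u : G} (hu : u ^ 2 = 1) (hxu : x * u = u * x) (hx : fixS h hF x = ⊥)
    (hc : finrank F (fixS h hF u) = 3) : False := by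
  have huu : ∀ v : V, u • u • v = v := fun v => by rw [← mul_smul, ← pow_two, hu, one_smul]
  have huB : ∀ v w : V, B (u • v) w = B v (u • w) := by
    intro v w
    have h1 := h.isom (all_mem h hF u) v (u • w)
    rw [huu] at h1
    exact h1
  have hul : ∀ (a : F) (v : V), u • a • v = a • u • v := h.lin (all_mem h hF u)
  -- `B v (u v) = 0`
  have hf : ∀ v : V, B v (u • v) = 0 := by
    let f : Module.Dual F V :=
      { toFun := fun v => B v (u • v)
        map_add' := fun v w => by
          rw [smul_add, map_add, map_add, LinearMap.add_apply, LinearMap.add_apply]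
          have h1 : B w (u • v) = B v (u • w) := by rw [h.symm, huB]
          rw [h1]
          linear_combination (B v (u • w)) * h.two
        map_smul' := fun a v => by
          show B (a • v) (u • a • v) = a * B v (u • v)
          rcases zero_or_one hF a with rfl | rfl
          · rw [zero_smul, map_zero, LinearMap.zero_apply, zero_mul]
          · rw [one_smul, one_mul] }
    obtain ⟨c, hc⟩ : ∃ c : V, ∀ v, B c v = B v (u • v) := by
      refine ⟨(B.toDual h.nondeg).symm f, fun v => ?_⟩
      exact LinearMap.BilinForm.apply_toDual_symm_apply (hB := h.nondeg) f v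
    have hxc : x • c = c := by
      have h1 : ∀ v, B (x • c) v = B c v := by
        intro v
        have h2 := h.isom (all_mem h hF x) c (x⁻¹ • v)
        rw [smul_inv_smul] at h2
        rw [h2, hc, hc]
        have h3 := h.isom (all_mem h hF x) (x⁻¹ • v) (u • x⁻¹ • v)
        rw [smul_inv_smul, ← mul_smul, hxu, mul_smul, smul_inv_smul] at h3
        exact h3.symm
      have h2 : x • c - c = 0 := h.nd _ fun v => by rw [map_sub, LinearMap.sub_apply, h1, sub_self]
      exact sub_eq_zero.1 h2
    have hc0 : c = 0 := by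
      have h1 : c ∈ fixS h hF x := hxc
      rw [hx, Submodule.mem_bot] at h1
      exact h1
    intro v
    rw [← hc, hc0, map_zero, LinearMap.zero_apply]
  -- the form `B v (w + u w)`
  let β : LinearMap.BilinForm F V := LinearMap.mk₂ F (fun v w => B v (w + u • w))
    (fun v v' w => LinearMap.map_add₂ B v v' _)
    (fun a v w => LinearMap.map_smul₂ B a v _)
    (fun v w w' => by rw [smul_add, ← map_add]; congr 1; abel)
    (fun a v w => by rw [hul, ← smul_add, map_smul])
  have hβ : ∀ v w, β v w = B v (w + u • w) := fun v w => rfl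
  have hβa : ∀ v, β v v = 0 := fun v => by rw [hβ, map_add, h.self, hf, add_zero]
  obtain ⟨W, hW⟩ := Submodule.exists_isCompl (fixS h hF u)
  have h1 := Submodule.finrank_add_eq_of_isCompl hW
  have h2 : Even (finrank F W) := by
    refine Cfsg.Agent.H727.GW.even_finrank _ _ (β.restrict W) (fun v => hβa _) (fun v hv => ?_) rfl
    have h3 : ∀ w : V, β w v = 0 := by
      intro w
      have h4 : w ∈ fixS h hF u ⊔ W := by rw [hW.sup_eq_top]; trivial
      obtain ⟨r, hr, z, hz, rfl⟩ := Submodule.mem_sup.1 h4
      have h5 : β (v : V) z = 0 := hv ⟨z, hz⟩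
      have h6 : β r v = 0 := by
        rw [hβ, map_add, ← huB, (mem_fixS h hF).1 hr, h.add_self]
      have h7 : β z v = β (v : V) z := by
        rw [hβ, hβ, map_add, map_add, ← huB, h.symm z v, h.symm (u • z) v]
      rw [map_add, LinearMap.add_apply, h6, h7, h5, add_zero]
    have h4 : (v : V) + u • (v : V) = 0 := h.nd _ fun w => by rw [h.symm]; exact h3 w
    have h5 : (v : V) ∈ fixS h hF u ⊓ W := ⟨add_left_cancel (h4.trans (h.vadd_self _).symm), v.2⟩
    rw [hW.inf_eq_bot, Submodule.mem_bot] at h5
    exact Subtype.ext h5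
  have h3 : finrank F W = 3 := by omega
  rw [h3] at h2
  exact absurd h2 (by decide)

end pairs

section main

variable {F V G : Type} [Field F] [Finite F] [AddCommGroup V] [Module F V] [FiniteDimensional F V] [Group G] [Finite G]
  [DistribMulAction G V] {B : LinearMap.BilinForm F V} {N : Subgroup G}

theorem fifteen_of_plus (h : Ev B N) (hF : Nat.card F = 2) (hdim : finrank F V = 6) {Q : QuadraticForm F V}
    (hQ : ∀ u v, polar Q u v = B u v) (hplus : ∃ U : Submodule F V, (∀ v ∈ U, Q v = 0) ∧ finrank F U = 3)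
    {ι : Type} [Finite ι] [Nontrivial ι] {x : ι → G} {r : ι → ℕ} (hx : PF x r) (hO : ∀ i v, Q (x i • v) = Q v)
    (hts : ∀ v, (∀ i, x i • v = v) → Q v = 0) :
    ∃ i j, r i = 5 ∧ r j = 3 ∧ (∀ k, k = i ∨ k = j) ∧ Nat.card {v : V // x j • v = v} = 16 ∧
      ∀ v : V, x j • v = v → x i • v = v → v = 0 := by
  have hfin : Finite V := Module.finite_of_finite F
  have hpow : ∀ i, x i ^ r i = 1 := hx.pow
  have hcases : ∀ i, r i ≠ 2 → _ := fun i hi =>
    odd_cases h hF hQ hdim hplus (hx.prime i) hi (hx.pow i) (hx.ne i) (hO i)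
  have hPinv : ∀ (i k : ι) (v : V), (Q v ≠ 0 ∧ x i • v = v) → (Q (x k • v) ≠ 0 ∧ x i • x k • v = x k • v) := by
    intro i k v hv
    refine ⟨by rw [hO]; exact hv.1, ?_⟩
    rw [← mul_smul, hx.comm, mul_smul, hv.2]
  have hthree : ∀ i, r i = 3 → Nat.card (fixS h hF (x i)) = 16 := by
    intro i hi
    rcases hcases i (by rw [hi]; decide) with ⟨-, ⟨h1, h2⟩ | h1⟩ | ⟨h1, -⟩ | ⟨h1, -⟩
    · exfalso
      have h3 := count_split h hF Q (x i)
      have h4 : Nat.card {v : V // Q v ≠ 0 ∧ x i • v = v} = 1 := by omega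
      obtain ⟨⟨n, hn⟩, huq⟩ := Nat.card_eq_one_iff_exists.1 h4
      refine hn.1 (hts n fun k => ?_)
      exact congrArg Subtype.val (huq ⟨x k • n, hPinv i k n hn⟩)
    · exact h1
    · omega
    · omega
  have hfive : ∀ i, r i = 5 → Nat.card (fixS h hF (x i)) = 4 ∧ Nat.card {v : V // Q v ≠ 0 ∧ x i • v = v} = 3 := by
    intro i hi
    rcases hcases i (by rw [hi]; decide) with ⟨h1, -⟩ | ⟨-, h1, h2⟩ | ⟨h1, -⟩
    · omega
    · have h3 := count_split h hF Q (x i)
      exact ⟨h1, by omega⟩
    · omega
  -- no 7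
  have hseven : ∀ i, r i ≠ 7 := by
    intro i hi
    obtain ⟨j, hji⟩ := exists_ne i
    have h1 : Nat.card (fixS h hF (x i)) = 1 := by
      rcases hcases i (by rw [hi]; decide) with ⟨h1, -⟩ | ⟨h1, -⟩ | ⟨-, h1⟩
      · omega
      · omega
      · exact h1
    have h2 : fixS h hF (x i) = ⊥ := by
      rw [← Submodule.finrank_eq_zero]
      exact finrank_of_card hF (by rw [h1, pow_zero])
    have hri : r j ≠ 7 := fun h3 => hji (hx.inj (by rw [h3, hi]))
    have h3 := card_mod_sub h hF (by norm_num : Nat.Prime 7) (by rw [← hi]; exact hx.pow i) (fixS h hF (x j))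
      (inv_fixS h hF (hx.comm j i))
    have h4 : fixS h hF (x j) ⊓ fixS h hF (x i) = ⊥ := by rw [h2, inf_bot_eq]
    rw [h4, card_sub hF (⊥ : Submodule F V), finrank_bot, pow_zero] at h3
    unfold Nat.ModEq at h3
    by_cases hj2 : r j = 2
    · have h5 := card_mod_sub h hF Nat.prime_two (by rw [← hj2]; exact hx.pow j) ⊤ (fun v _ => trivial) (x := x j)
      rw [top_inf_eq, card_sub hF, finrank_top, hdim] at h5
      have h6 := finrank_fixS_lt h hF (hx.ne j)
      rw [card_sub hF] at h3 h5
      rw [hdim] at h6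
      have h7 : finrank F (fixS h hF (x j)) = 3 := by
        generalize finrank F (fixS h hF (x j)) = d at h3 h5 h6
        unfold Nat.ModEq at h5
        interval_cases d
        · norm_num at h5
        · norm_num at h3
        · norm_num at h3
        · rfl
        · norm_num at h3
        · norm_num at h3
      exact two_seven h hF hdim (x := x i) (u := x j) (by rw [← hj2]; exact hx.pow j) (hx.comm i j) h2 h7
    · rcases hcases j hj2 with ⟨h5, -⟩ | ⟨h5, -⟩ | ⟨h5, -⟩
      · rw [hthree j h5] at h3
        norm_num at h3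
      · rw [(hfive j h5).1] at h3
        norm_num at h3
      · exact hri h5
  have hall : ∀ i, r i = 2 ∨ r i = 3 ∨ r i = 5 := by
    intro i
    by_cases h2 : r i = 2
    · exact Or.inl h2
    · rcases hcases i h2 with ⟨h5, -⟩ | ⟨h5, -⟩ | ⟨h5, -⟩
      · exact Or.inr (Or.inl h5)
      · exact Or.inr (Or.inr h5)
      · exact absurd h5 (hseven i)
  -- 5 occurs
  have h5 : ∃ i, r i = 5 := by
    by_contra hno
    push Not at hno
    obtain ⟨a, b, hab⟩ := exists_pair_ne ι
    have hne : r a ≠ r b := fun h1 => hab (hx.inj h1)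
    obtain ⟨i, j, hi, hj⟩ : ∃ i j, r i = 2 ∧ r j = 3 := by
      rcases hall a with ha | ha | ha
      · rcases hall b with hb | hb | hb
        · omega
        · exact ⟨a, b, ha, hb⟩
        · exact absurd hb (hno b)
      · rcases hall b with hb | hb | hb
        · exact ⟨b, a, hb, ha⟩
        · omega
        · exact absurd hb (hno b)
      · exact absurd ha (hno a)
    refine two_three h hF hQ hdim hplus (x := x j) (u := x i) (by rw [← hj]; exact hx.pow j)
      (by rw [← hi]; exact hx.pow i) (hx.comm j i) (hO j) (hthree j hj) fun v h1 h2 => hts v fun k => ?_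
    rcases hall k with hk | hk | hk
    · rw [hx.inj (hk.trans hi.symm)]; exact h2
    · rw [hx.inj (hk.trans hj.symm)]; exact h1
    · exact absurd hk (hno k)
  obtain ⟨i, hi⟩ := h5
  obtain ⟨hi1, hi2⟩ := hfive i hi
  -- 3 occurs
  have h3 : ∃ j, r j = 3 := by
    by_contra hno
    push Not at hno
    obtain ⟨j, hji⟩ := exists_ne i
    have hj : r j = 2 := by
      rcases hall j with hj | hj | hj
      · exact hj
      · exact absurd hj (hno j)
      · exact absurd (hx.inj (hj.trans hi.symm)) hji
    have h1 := card_mod Nat.prime_two (by rw [← hj]; exact hx.pow j) (fun v => Q v ≠ 0 ∧ x i • v = v)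
      (hPinv i j)
    rw [hi2] at h1
    have h2 : Nat.card {v : V // (Q v ≠ 0 ∧ x i • v = v) ∧ x j • v = v} ≠ 0 := by
      intro h0
      rw [h0] at h1
      unfold Nat.ModEq at h1
      norm_num at h1
    obtain ⟨⟨n, hn, hn2⟩⟩ : Nonempty {v : V // (Q v ≠ 0 ∧ x i • v = v) ∧ x j • v = v} :=
      (Nat.card_ne_zero.1 h2).1
    refine hn.1 (hts n fun k => ?_)
    rcases hall k with hk | hk | hk
    · rw [hx.inj (hk.trans hj.symm)]; exact hn2
    · exact absurd hk (hno k)
    · rw [hx.inj (hk.trans hi.symm)]; exact hn.2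
  obtain ⟨j, hj⟩ := h3
  obtain ⟨-, hCC⟩ := three_five h hF hdim (x := x j) (y := x i) (by rw [← hj]; exact hx.pow j)
    (by rw [← hi]; exact hx.pow i) (hx.comm j i) (hthree j hj) hi1
  refine ⟨i, j, hi, hj, fun k => ?_, hthree j hj, fun (v : V) h1 h2 => ?_⟩
  · rcases hall k with hk | hk | hk
    · exfalso
      exact two_three_five h hF hdim (x := x j) (y := x i) (u := x k) (by rw [← hj]; exact hx.pow j)
        (by rw [← hi]; exact hx.pow i) (by rw [← hk]; exact hx.pow k) (hx.comm j i) (hx.comm j k) (hx.comm i k)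
        (hthree j hj) hi1 (hx.ne k)
    · exact Or.inr (hx.inj (hk.trans hj.symm))
    · exact Or.inl (hx.inj (hk.trans hi.symm))
  · have h3 : v ∈ fixS h hF (x j) ⊓ fixS h hF (x i) := ⟨h1, h2⟩
    rw [hCC, Submodule.mem_bot] at h3
    exact h3

end main

end Cfsg.Agent.H76.RC
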